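import Cfsg.Agent.H309.SF.Nf4
import Cfsg.Agent.H309.SF.Dat7

set_option autoImplicit false
set_option maxRecDepth 100000

/-!
# The tables for `PSp_4(7)`: kernel checks (helper309)
-/

namespace Cfsg.Agent.H309.SF.T7

open Matrix

/-- entry -/
def ent (A k : Nat) : Nat := Nat.mod (Nat.div A (Nat.pow 8 k)) 8

/-- entry of the product -/
def dot (A B i j : Nat) : Nat :=
  Nat.mod (Nat.add (Nat.add (Nat.mul (ent A (Nat.mul 4 i)) (ent B j))
    (Nat.mul (ent A (Nat.add (Nat.mul 4 i) 1)) (ent B (Nat.add 4 j))))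
    (Nat.add (Nat.mul (ent A (Nat.add (Nat.mul 4 i) 2)) (ent B (Nat.add 8 j)))
    (Nat.mul (ent A (Nat.add (Nat.mul 4 i) 3)) (ent B (Nat.add 12 j))))) 7

/-- entry of the product `Aᵀ B` -/
def dotT (A B i j : Nat) : Nat :=
  Nat.mod (Nat.add (Nat.add (Nat.mul (ent A i) (ent B j))
    (Nat.mul (ent A (Nat.add 4 i)) (ent B (Nat.add 4 j))))
    (Nat.add (Nat.mul (ent A (Nat.add 8 i)) (ent B (Nat.add 8 j)))
    (Nat.mul (ent A (Nat.add 12 i)) (ent B (Nat.add 12 j))))) 7

/-- all pairs -/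
def allP (f : Nat → Nat → Bool) : Bool := [0, 1, 2, 3].all fun i => [0, 1, 2, 3].all fun j => f i j

/-- `A B = Z` -/
def chkMul (A B Z : Nat) : Bool := allP fun i j => Nat.beq (dot A B i j) (ent Z (Nat.add (Nat.mul 4 i) j))

/-- `Aᵀ B = Z` -/
def chkMulT (A B Z : Nat) : Bool := allP fun i j => Nat.beq (dotT A B i j) (ent Z (Nat.add (Nat.mul 4 i) j))

/-- entries -/
def chkE (A : Nat) (l : List Nat) : Bool :=
  allP fun i j => Nat.beq (ent A (Nat.add (Nat.mul 4 i) j)) (Nat.mod (l.getD (Nat.add (Nat.mul 4 i) j) 0) 7)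

/-- an off-diagonal entry -/
def off (A : Nat) : Bool :=
  [1, 2, 3, 4, 6, 7, 8, 9, 11, 12, 13, 14].any fun k => !(Nat.beq (Nat.mod (ent A k) 7) 0)

/-- the code of the identity -/
def oneC : Nat := 1 + 8 ^ 5 + 8 ^ 10 + 8 ^ 15

/-- the check of a row -/
def core (gl cl : List Nat) (row : List Nat) : Bool :=
  match row with
  | [G, C, X, XG, X2, X4, Y0, Y2, Y4] =>
    chkE G gl && (chkE C cl && (chkMulT X G XG && (chkMul XG X G && (chkMul X X X2 && (chkMul X2 X2 X4 &&
      (chkMul X4 X oneC && (chkMul X4 C Y0 && (chkMul Y0 Y0 Y2 && (chkMul Y2 Y2 Y4 &&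
        ((chkMul Y4 Y0 oneC || chkMul Y4 Y0 (6 * oneC)) && (off X && off Y0)))))))))))
  | _ => false

/-- go through a list -/
def go (chk : Nat → List Nat → Bool) : Nat → List (List Nat) → Bool
  | _, [] => true
  | n, r :: rs => chk n r && go chk (n + 1) rs

theorem go_spec (chk : Nat → List Nat → Bool) : ∀ (l : List (List Nat)) (n : Nat), go chk n l = true →
    ∀ k < l.length, chk (n + k) (l.getD k []) = true
  | [], _, _, k, hk => absurd hk (by simp)
  | r :: rs, n, h, k, hk => by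
    simp only [go, Bool.and_eq_true] at h
    rcases k with _ | k
    · simpa using h.1
    · have := go_spec chk rs (n + 1) h.2 k (by simpa using hk)
      rw [show n + (k + 1) = n + 1 + k by ring]
      simpa using this

/-- lists of entries -/
def gl1 (b s p : Nat) : List Nat :=
  [0, 1, b, s * b + 6 * p + 1, 6, 0, 1, b, 6 * b, 6, 0, 1, 6 * (s * b + 6 * p + 1), 6 * b, 6, 0]
/-- lists of entries -/
def cl1 (s p : Nat) : List Nat := [0, 0, 0, 6, 1, 0, 0, s, 0, 1, 0, 6 * p, 0, 0, 1, s]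
/-- lists of entries -/
def gl2 (e : Nat) : List Nat := [0, 1, 0, 0, 6, 0, 0, 0, 0, 0, 0, e, 0, 0, 6 * e, 0]
/-- lists of entries -/
def cl2 (b l y : Nat) : List Nat := [0, 6, 0, 0, 1, b, 0, l ^ 5, 0, 1, l, y, 0, 0, 0, l ^ 5]
/-- lists of entries -/
def cl3 (b b' : Nat) : List Nat := [0, 6, 0, 0, 1, b, 0, 0, 0, 0, 0, 6, 0, 0, 1, b']
/-- lists of entries -/
def cl4 (b e : Nat) : List Nat := [0, 6, 0, 0, 1, b, 0, 0, 0, 0, e, 0, 0, 0, 0, e]
/-- lists of entries -/
def cl5 : List Nat := [1, 0, 0, 0, 0, 1, 0, 0, 0, 0, 6, 0, 0, 0, 0, 6]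

/-- the checks -/
def chk1 (n : Nat) (row : List Nat) : Bool :=
  Nat.beq ((1 + 6 * (n / 49) * (n / 49) + (n / 7 % 7 * (n / 49) + 6 * (n % 7) + 1)) % 7) 0 ||
    core (gl1 (n / 49) (n / 7 % 7) (n % 7)) (cl1 (n / 7 % 7) (n % 7)) row
/-- the checks -/
def chk2 (n : Nat) (row : List Nat) : Bool := core (gl2 1) (cl2 (n / 42) (n / 7 % 6 + 1) (n % 7)) row
/-- the checks -/
def chk3 (n : Nat) (row : List Nat) : Bool := core (gl2 (n % 6 + 1)) (cl3 (n / 42) (n / 6 % 7)) row
/-- the checks -/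
def chk4 (n : Nat) (row : List Nat) : Bool := core (gl2 1) (cl4 (n / 2) (5 * (n % 2) + 1)) row
/-- the checks -/
def chk5 (_ : Nat) (row : List Nat) : Bool := core (gl2 1) cl5 row

theorem len1 : tab1.length = 343 := by decide +kernel
theorem len2 : tab2.length = 294 := by decide +kernel
theorem len3 : tab3.length = 294 := by decide +kernel
theorem len4 : tab4.length = 14 := by decide +kernel
theorem len5 : tab5.length = 1 := by decide +kernel

theorem ok5 : go chk5 0 tab5 = true := by decide +kernel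
theorem ok4 : go chk4 0 tab4 = true := by decide +kernel
theorem ok2 : go chk2 0 tab2 = true := by decide +kernel
theorem ok3 : go chk3 0 tab3 = true := by decide +kernel
theorem ok1 : go chk1 0 tab1 = true := by decide +kernel

end Cfsg.Agent.H309.SF.T7
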