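import Cfsg.Agent.H309.SF.Eng7

set_option autoImplicit false
set_option maxRecDepth 100000

/-!
# The normal forms over a field with seven elements (helper309)
-/

namespace Cfsg.Agent.H309.SF.T7

open Matrix

variable {F : Type*} [Field F]

/-- factorization of `C` into elements of order five preserving `Γ` -/
def Good (C Γ : Matrix (Fin 4) (Fin 4) F) : Prop :=
  ∃ X Y : Matrix (Fin 4) (Fin 4) F, Xᵀ * Γ * X = Γ ∧ X ^ 5 = 1 ∧ X ≠ 1 ∧ Y ^ 5 = 1 ∧ Y ≠ 1 ∧
    (C = X * Y ∨ C = -(X * Y))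

/-- the matrix of a code -/
def toM (F : Type*) [Field F] (A : ℕ) : Matrix (Fin 4) (Fin 4) F := of fun i j => (ent A (4 * i.val + j.val) : F)

/-- the matrix of a list -/
def toL (F : Type*) [Field F] (l : List ℕ) : Matrix (Fin 4) (Fin 4) F :=
  of fun i j => ((l.getD (4 * i.val + j.val) 0 : ℕ) : F)

theorem cast_mod (h7 : (7 : F) = 0) (n : ℕ) : ((Nat.mod n 7 : ℕ) : F) = n := by
  show ((n % 7 : ℕ) : F) = n
  conv_rhs => rw [← Nat.div_add_mod n 7]
  push_cast
  rw [h7]; ring

theorem allP_iff (f : ℕ → ℕ → Bool) : allP f = true ↔ ∀ i j : Fin 4, f i.val j.val = true := by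
  constructor
  · intro h i j
    simp only [allP, List.all_cons, List.all_nil, Bool.and_true, Bool.and_eq_true] at h
    fin_cases i <;> fin_cases j <;> simp_all
  · intro h
    simp only [allP, List.all_cons, List.all_nil, Bool.and_true, Bool.and_eq_true]
    exact ⟨⟨h 0 0, h 0 1, h 0 2, h 0 3⟩, ⟨h 1 0, h 1 1, h 1 2, h 1 3⟩, ⟨h 2 0, h 2 1, h 2 2, h 2 3⟩,
      ⟨h 3 0, h 3 1, h 3 2, h 3 3⟩⟩

theorem chkMul_spec (h7 : (7 : F) = 0) {A B Z : ℕ} (h : chkMul A B Z = true) : toM F A * toM F B = toM F Z := by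
  rw [chkMul, allP_iff] at h
  ext i j
  have h1 := Nat.eq_of_beq_eq_true (h i j)
  rw [Matrix.mul_apply, Fin.sum_univ_four]
  simp only [toM, of_apply]
  have h2 : ((ent Z (4 * i.val + j.val) : ℕ) : F) = ((dot A B i.val j.val : ℕ) : F) := by
    rw [h1]; rfl
  rw [h2, dot, cast_mod h7]
  simp only [Nat.add_eq, Nat.mul_eq, Nat.cast_add, Nat.cast_mul]
  simp
  ring

theorem chkMulT_spec (h7 : (7 : F) = 0) {A B Z : ℕ} (h : chkMulT A B Z = true) : (toM F A)ᵀ * toM F B = toM F Z := by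
  rw [chkMulT, allP_iff] at h
  ext i j
  have h1 := Nat.eq_of_beq_eq_true (h i j)
  rw [Matrix.mul_apply, Fin.sum_univ_four]
  simp only [toM, of_apply, transpose_apply]
  have h2 : ((ent Z (4 * i.val + j.val) : ℕ) : F) = ((dotT A B i.val j.val : ℕ) : F) := by
    rw [h1]; rfl
  rw [h2, dotT, cast_mod h7]
  simp only [Nat.add_eq, Nat.mul_eq, Nat.cast_add, Nat.cast_mul]
  simp
  ring

theorem chkE_spec (h7 : (7 : F) = 0) {A : ℕ} {l : List ℕ} (h : chkE A l = true) : toM F A = toL F l := by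
  rw [chkE, allP_iff] at h
  ext i j
  have h1 := Nat.eq_of_beq_eq_true (h i j)
  simp only [toM, toL, of_apply]
  have h2 : ((ent A (4 * i.val + j.val) : ℕ) : F) = ((Nat.mod (l.getD (4 * i.val + j.val) 0) 7 : ℕ) : F) := by
    rw [← show ent A (Nat.add (Nat.mul 4 i.val) j.val) = ent A (4 * i.val + j.val) from rfl, h1]; rfl
  rw [h2, cast_mod h7]

theorem toM_one (h7 : (7 : F) = 0) : toM F oneC = 1 := by
  rw [chkE_spec h7 (l := [1, 0, 0, 0, 0, 1, 0, 0, 0, 0, 1, 0, 0, 0, 0, 1]) (by decide +kernel)]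
  ext i j
  fin_cases i <;> fin_cases j <;> simp [toL]

theorem six_eq (h7 : (7 : F) = 0) : (6 : F) = -1 := by linear_combination h7

theorem toM_neg (h7 : (7 : F) = 0) : toM F (6 * oneC) = -1 := by
  rw [chkE_spec h7 (l := [6, 0, 0, 0, 0, 6, 0, 0, 0, 0, 6, 0, 0, 0, 0, 6]) (by decide +kernel)]
  ext i j
  fin_cases i <;> fin_cases j <;> simp [toL, six_eq h7]

theorem off_spec [CharP F 7] {A : ℕ} (h : off A = true) : toM F A ≠ 1 ∧ toM F A ≠ -1 := by
  have key : ∃ i j : Fin 4, i ≠ j ∧ (toM F A) i j ≠ 0 := by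
    simp only [off, List.any_cons, List.any_nil, Bool.or_false, Bool.or_eq_true, Bool.not_eq_true'] at h
    have h0 : ∀ i j : Fin 4, (Nat.mod (ent A (4 * i.val + j.val)) 7).beq 0 = false → (toM F A) i j ≠ 0 := by
      intro i j hij h1
      have h2 : (7 : ℕ) ∣ ent A (4 * i.val + j.val) := (CharP.cast_eq_zero_iff F 7 _).1 h1
      have h3 : Nat.mod (ent A (4 * i.val + j.val)) 7 = 0 := Nat.mod_eq_zero_of_dvd h2
      rw [h3] at hij
      exact absurd hij (by decide)
    rcases h with h | h | h | h | h | h | h | h | h | h | h | h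
    · exact ⟨0, 1, by decide, h0 0 1 h⟩
    · exact ⟨0, 2, by decide, h0 0 2 h⟩
    · exact ⟨0, 3, by decide, h0 0 3 h⟩
    · exact ⟨1, 0, by decide, h0 1 0 h⟩
    · exact ⟨1, 2, by decide, h0 1 2 h⟩
    · exact ⟨1, 3, by decide, h0 1 3 h⟩
    · exact ⟨2, 0, by decide, h0 2 0 h⟩
    · exact ⟨2, 1, by decide, h0 2 1 h⟩
    · exact ⟨2, 3, by decide, h0 2 3 h⟩
    · exact ⟨3, 0, by decide, h0 3 0 h⟩
    · exact ⟨3, 1, by decide, h0 3 1 h⟩
    · exact ⟨3, 2, by decide, h0 3 2 h⟩
  obtain ⟨i, j, hij, h1⟩ := key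
  constructor
  · intro h2
    rw [h2, Matrix.one_apply_ne hij] at h1
    exact h1 rfl
  · intro h2
    rw [h2, Matrix.neg_apply, Matrix.one_apply_ne hij, neg_zero] at h1
    exact h1 rfl

theorem pow5 {M : Type*} [Monoid M] (x : M) : x ^ 5 = (x * x) * (x * x) * x := by
  simp only [pow_succ, pow_zero, one_mul, mul_assoc]

theorem core_spec [CharP F 7] {gl cl row : List ℕ} (h : core gl cl row = true) : Good (toL F cl) (toL F gl) := by
  have h7 : (7 : F) = 0 := by exact_mod_cast CharP.cast_eq_zero F 7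
  unfold core at h
  split at h
  · next G C X XG X2 X4 Y0 Y2 Y4 =>
    simp only [Bool.and_eq_true, Bool.or_eq_true] at h
    obtain ⟨hG, hC, h1, h2, h3, h4, h5, h6, h8, h9, h10, hX, hY⟩ := h
    have eG := chkE_spec h7 hG
    have eC := chkE_spec h7 hC
    have e1 := chkMulT_spec h7 h1
    have e2 := chkMul_spec h7 h2
    have e3 := chkMul_spec h7 h3
    have e4 := chkMul_spec h7 h4
    have e5 := chkMul_spec h7 h5
    have e6 := chkMul_spec h7 h6
    have e8 := chkMul_spec h7 h8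
    have e9 := chkMul_spec h7 h9
    rw [toM_one h7] at e5
    have f1 : toM F X ^ 5 = 1 := by rw [pow5, e3, e4, e5]
    have f2 : toM F X * toM F Y0 = toM F C := by
      rw [← e6, ← Matrix.mul_assoc, ← e4, ← e3]
      have : toM F X * (toM F X * toM F X * (toM F X * toM F X)) = toM F X ^ 5 := by
        simp only [pow_succ, pow_zero, one_mul, Matrix.mul_assoc]
      rw [this, f1, Matrix.one_mul]
    have f3 : toM F Y0 ^ 5 = toM F Y4 * toM F Y0 := by rw [pow5, e8, e9]
    rw [← eG, ← eC]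
    obtain ⟨hX1, -⟩ := off_spec (F := F) hX
    obtain ⟨hY1, hY2⟩ := off_spec (F := F) hY
    rcases h10 with h10 | h10
    · have e10 := chkMul_spec h7 h10
      rw [toM_one h7] at e10
      exact ⟨toM F X, toM F Y0, by rw [e1, e2], f1, hX1, by rw [f3, e10], hY1, Or.inl f2.symm⟩
    · have e10 := chkMul_spec h7 h10
      rw [toM_neg h7] at e10
      refine ⟨toM F X, -toM F Y0, by rw [e1, e2], f1, hX1, ?_, fun h => hY2 ?_, Or.inr ?_⟩
      · rw [Odd.neg_pow (by decide), f3, e10, neg_neg]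
      · rw [← h, neg_neg]
      · rw [Matrix.mul_neg, neg_neg, f2]
  · exact absurd h (by simp)

/-- every element is a natural number below seven -/
theorem exists_nat [Finite F] (hF : Nat.card F = 7) (x : F) : ∃ n : ℕ, n < 7 ∧ x = (n : F) := by
  have : Fintype F := Fintype.ofFinite F
  have hc : Fintype.card F = 7 := by rw [← Nat.card_eq_fintype_card, hF]
  have : Fact (Nat.Prime 7) := ⟨by norm_num⟩
  have : CharP F 7 := charP_of_card_eq_prime hc
  have hinj : Function.Injective (fun n : Fin 7 => ((n : ℕ) : F)) := by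
    intro a b hab
    have h1 := (CharP.natCast_injOn_Iio F 7) (by simpa using a.2) (by simpa using b.2) hab
    exact Fin.ext h1
  have hbij := (Fintype.bijective_iff_injective_and_card (fun n : Fin 7 => ((n : ℕ) : F))).2 ⟨hinj, by simp [hc]⟩
  obtain ⟨n, hn⟩ := hbij.2 x
  exact ⟨n, n.2, hn.symm⟩

theorem good_of_NF [Finite F] (hF : Nat.card F = 7) {C Γ : Matrix (Fin 4) (Fin 4) F} (h : NF C Γ) : Good C Γ := by
  have : Fintype F := Fintype.ofFinite F
  have hc : Fintype.card F = 7 := by rw [← Nat.card_eq_fintype_card, hF]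
  have : Fact (Nat.Prime 7) := ⟨by norm_num⟩
  have hchar : CharP F 7 := charP_of_card_eq_prime hc
  have h7 : (7 : F) = 0 := by exact_mod_cast CharP.cast_eq_zero F 7
  have h6 := six_eq h7
  rcases h with ⟨b, s, p, a, ha, hP, rfl, rfl⟩ | ⟨β, l, l', y, hl, rfl, rfl⟩ | ⟨β, β', ε, hε, rfl, rfl⟩ |
    ⟨β, ε, hε, rfl, rfl⟩ | ⟨rfl, rfl⟩
  · obtain ⟨nb, hnb, rfl⟩ := exists_nat hF b
    obtain ⟨ns, hns, rfl⟩ := exists_nat hF s
    obtain ⟨np, hnp, rfl⟩ := exists_nat hF p
    have h1 := go_spec chk1 tab1 0 ok1 (nb * 49 + ns * 7 + np) (by rw [len1]; omega)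
    rw [zero_add, chk1, Bool.or_eq_true, show (nb * 49 + ns * 7 + np) / 49 = nb by omega,
      show (nb * 49 + ns * 7 + np) / 7 % 7 = ns by omega, show (nb * 49 + ns * 7 + np) % 7 = np by omega] at h1
    rcases h1 with h1 | h1
    · exfalso
      apply hP
      have h2 := Nat.eq_of_beq_eq_true h1
      have h4 : (((1 + 6 * nb * nb + (ns * nb + 6 * np + 1)) % 7 : ℕ) : F) =
        ((1 + 6 * nb * nb + (ns * nb + 6 * np + 1) : ℕ) : F) := cast_mod h7 _
      have h5 : ((1 + 6 * nb * nb + (ns * nb + 6 * np + 1) : ℕ) : F) = 0 := by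
        rw [← h4, h2, Nat.cast_zero]
      push_cast at h5
      rw [ha]
      linear_combination h5 - ((nb : F) * nb + np) * h7
    · have h2 := core_spec (F := F) h1
      convert h2 using 1
      · ext i j
        fin_cases i <;> fin_cases j <;> simp [toL, cl1, h6]
      · ext i j
        fin_cases i <;> fin_cases j <;> simp [toL, gl1, T1, h6, ha] <;> ring
  · obtain ⟨nb, hnb, rfl⟩ := exists_nat hF β
    obtain ⟨nl, hnl, rfl⟩ := exists_nat hF l
    obtain ⟨ny, hny, rfl⟩ := exists_nat hF y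
    have hl0 : (nl : F) ≠ 0 := left_ne_zero_of_mul (by rw [hl]; exact one_ne_zero)
    have hnl0 : nl ≠ 0 := by
      rintro rfl
      exact hl0 Nat.cast_zero
    have hl' : l' = ((nl ^ 5 : ℕ) : F) := by
      have h1 : (nl : F) ^ (Fintype.card F - 1) = 1 := FiniteField.pow_card_sub_one_eq_one _ hl0
      rw [hc] at h1
      apply mul_left_cancel₀ hl0
      rw [hl]
      push_cast
      rw [← h1]
      ring
    have h1 := go_spec chk2 tab2 0 ok2 (nb * 42 + (nl - 1) * 7 + ny) (by rw [len2]; omega)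
    rw [zero_add, chk2, show (nb * 42 + (nl - 1) * 7 + ny) / 42 = nb by omega,
      show (nb * 42 + (nl - 1) * 7 + ny) / 7 % 6 + 1 = nl by omega,
      show (nb * 42 + (nl - 1) * 7 + ny) % 7 = ny by omega] at h1
    have h2 := core_spec (F := F) h1
    convert h2 using 1
    · ext i j
      fin_cases i <;> fin_cases j <;> simp [toL, cl2, h6, hl']
    · ext i j
      fin_cases i <;> fin_cases j <;> simp [toL, gl2, H2, h6]
  · obtain ⟨nb, hnb, rfl⟩ := exists_nat hF β
    obtain ⟨nb', hnb', rfl⟩ := exists_nat hF β'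
    obtain ⟨ne, hne, rfl⟩ := exists_nat hF ε
    have hne0 : ne ≠ 0 := by
      rintro rfl
      exact hε Nat.cast_zero
    have h1 := go_spec chk3 tab3 0 ok3 (nb * 42 + nb' * 6 + (ne - 1)) (by rw [len3]; omega)
    rw [zero_add, chk3, show (nb * 42 + nb' * 6 + (ne - 1)) / 42 = nb by omega,
      show (nb * 42 + nb' * 6 + (ne - 1)) / 6 % 7 = nb' by omega,
      show (nb * 42 + nb' * 6 + (ne - 1)) % 6 + 1 = ne by omega] at h1
    have h2 := core_spec (F := F) h1
    convert h2 using 1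
    · ext i j
      fin_cases i <;> fin_cases j <;> simp [toL, cl3, h6]
    · ext i j
      fin_cases i <;> fin_cases j <;> simp [toL, gl2, H2, h6]
  · obtain ⟨nb, hnb, rfl⟩ := exists_nat hF β
    rcases hε with rfl | rfl
    · have h1 := go_spec chk4 tab4 0 ok4 (nb * 2) (by rw [len4]; omega)
      rw [zero_add, chk4, show nb * 2 / 2 = nb by omega, show nb * 2 % 2 = 0 by omega] at h1
      have h2 := core_spec (F := F) h1
      convert h2 using 1
      · ext i j
        fin_cases i <;> fin_cases j <;> simp [toL, cl4, h6]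
      · ext i j
        fin_cases i <;> fin_cases j <;> simp [toL, gl2, H2, h6]
    · have h1 := go_spec chk4 tab4 0 ok4 (nb * 2 + 1) (by rw [len4]; omega)
      rw [zero_add, chk4, show (nb * 2 + 1) / 2 = nb by omega, show (nb * 2 + 1) % 2 = 1 by omega] at h1
      have h2 := core_spec (F := F) h1
      convert h2 using 1
      · ext i j
        fin_cases i <;> fin_cases j <;> simp [toL, cl4, h6]
      · ext i j
        fin_cases i <;> fin_cases j <;> simp [toL, gl2, H2, h6]
  · have h1 := go_spec chk5 tab5 0 ok5 0 (by rw [len5]; omega)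
    rw [chk5] at h1
    have h2 := core_spec (F := F) h1
    convert h2 using 1
    · ext i j
      fin_cases i <;> fin_cases j <;> simp [toL, cl5, h6]
    · ext i j
      fin_cases i <;> fin_cases j <;> simp [toL, gl2, H2, h6]

end Cfsg.Agent.H309.SF.T7
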