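import Mathlib.LinearAlgebra.SymplecticGroup
import Mathlib.LinearAlgebra.Matrix.ToLin
import Mathlib.Tactic

/-!
# Normal forms of the noncentral elements of `Sp_4(F)` (helper309, S2464, S2452)
-/

set_option autoImplicit false

namespace Cfsg.Agent.H309.SF

open Matrix

variable {F : Type*} [Field F]

/-- the index type -/
abbrev Ix := Fin 2 ⊕ Fin 2

/-- the symplectic form -/
def B (u v : Ix → F) : F :=
  u (Sum.inr 0) * v (Sum.inl 0) + u (Sum.inr 1) * v (Sum.inl 1) - u (Sum.inl 0) * v (Sum.inr 0) -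
    u (Sum.inl 1) * v (Sum.inr 1)

theorem B_eq (u v : Ix → F) : u ⬝ᵥ (J (Fin 2) F *ᵥ v) = B u v := by
  simp only [J, dotProduct, mulVec, Fintype.sum_sum_type, Fin.sum_univ_two, fromBlocks_apply₁₁,
    fromBlocks_apply₁₂, fromBlocks_apply₂₁, fromBlocks_apply₂₂, Matrix.zero_apply, Matrix.neg_apply, Matrix.one_apply,
    B]
  simp
  ring

theorem B_add_left (u u' v : Ix → F) : B (u + u') v = B u v + B u' v := by
  simp only [B, Pi.add_apply]; ring

theorem B_add_right (u v v' : Ix → F) : B u (v + v') = B u v + B u v' := by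
  simp only [B, Pi.add_apply]; ring

theorem B_sub_left (u u' v : Ix → F) : B (u - u') v = B u v - B u' v := by
  simp only [B, Pi.sub_apply]; ring

theorem B_sub_right (u v v' : Ix → F) : B u (v - v') = B u v - B u v' := by
  simp only [B, Pi.sub_apply]; ring

theorem B_neg_left (u v : Ix → F) : B (-u) v = -B u v := by
  simp only [B, Pi.neg_apply]; ring

theorem B_neg_right (u v : Ix → F) : B u (-v) = -B u v := by
  simp only [B, Pi.neg_apply]; ring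

theorem B_smul_left (c : F) (u v : Ix → F) : B (c • u) v = c * B u v := by
  simp only [B, Pi.smul_apply, smul_eq_mul]; ring

theorem B_smul_right (c : F) (u v : Ix → F) : B u (c • v) = c * B u v := by
  simp only [B, Pi.smul_apply, smul_eq_mul]; ring

theorem B_self (u : Ix → F) : B u u = 0 := by
  simp only [B]; ring

theorem B_comm (u v : Ix → F) : B u v = -B v u := by
  simp only [B]; ring

theorem B_zero_left (v : Ix → F) : B 0 v = 0 := by simp [B]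

theorem B_zero_right (v : Ix → F) : B v 0 = 0 := by simp [B]

theorem B_nondeg {u : Ix → F} (h : ∀ v, B u v = 0) : u = 0 := by
  funext i
  rcases i with i | i
  · have := h (Pi.single (Sum.inr i) 1)
    fin_cases i <;> simpa [B] using this
  · have := h (Pi.single (Sum.inl i) 1)
    fin_cases i <;> simpa [B] using this

theorem exists_B {u : Ix → F} (h : u ≠ 0) : ∃ v, B u v ≠ 0 := by
  by_contra hc
  push Not at hc
  exact h (B_nondeg hc)

theorem B_mulVec {g : Matrix Ix Ix F} (hg : gᵀ * J (Fin 2) F * g = J (Fin 2) F) (u v : Ix → F) :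
    B (g *ᵥ u) (g *ᵥ v) = B u v := by
  rw [← B_eq, ← B_eq, ← Matrix.vecMul_transpose, ← dotProduct_mulVec, mulVec_mulVec, mulVec_mulVec, hg]

/-- matrix of four vectors -/
def mat (w : Fin 4 → Ix → F) : Matrix Ix (Fin 4) F := of fun i j => w j i

/-- Gram matrix -/
def gram (w : Fin 4 → Ix → F) : Matrix (Fin 4) (Fin 4) F := of fun i j => B (w i) (w j)

theorem mat_mulVec (w : Fin 4 → Ix → F) (c : Fin 4 → F) : mat w *ᵥ c = ∑ k, c k • w k := by
  funext i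
  simp only [mat, mulVec, dotProduct, of_apply, Finset.sum_apply, Pi.smul_apply, smul_eq_mul]
  exact Finset.sum_congr rfl fun k _ => mul_comm _ _

theorem gram_eq (w : Fin 4 → Ix → F) : (mat w)ᵀ * J (Fin 2) F * mat w = gram w := by
  ext i j
  rw [Matrix.mul_assoc, Matrix.mul_apply]
  simp only [gram, of_apply, ← B_eq]
  rfl

theorem inv_of_gram {w : Fin 4 → Ix → F} {G' : Matrix (Fin 4) (Fin 4) F} (h : G' * gram w = 1) :
    (G' * (mat w)ᵀ * J (Fin 2) F) * mat w = 1 ∧ mat w * (G' * (mat w)ᵀ * J (Fin 2) F) = 1 := by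
  have h1 : (G' * (mat w)ᵀ * J (Fin 2) F) * mat w = 1 := by
    rw [Matrix.mul_assoc, Matrix.mul_assoc, ← Matrix.mul_assoc (mat w)ᵀ, gram_eq, h]
  exact ⟨h1, (Matrix.mul_eq_one_comm_of_card_eq _ _ _ (by simp)).1 h1⟩

theorem span_of_gram {w : Fin 4 → Ix → F} {G' : Matrix (Fin 4) (Fin 4) F} (h : G' * gram w = 1) (x : Ix → F) :
    ∃ c : Fin 4 → F, x = c 0 • w 0 + c 1 • w 1 + c 2 • w 2 + c 3 • w 3 := by
  refine ⟨(G' * (mat w)ᵀ * J (Fin 2) F) *ᵥ x, ?_⟩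
  have h1 : x = mat w *ᵥ ((G' * (mat w)ᵀ * J (Fin 2) F) *ᵥ x) := by
    rw [mulVec_mulVec, (inv_of_gram h).2, one_mulVec]
  conv_lhs => rw [h1, mat_mulVec]
  simp only [Fin.sum_univ_four]


/-- the standard Gram matrix -/
def H2 (ε : F) : Matrix (Fin 4) (Fin 4) F := !![0, 1, 0, 0; -1, 0, 0, 0; 0, 0, 0, ε; 0, 0, -ε, 0]

/-- the Toeplitz Gram matrix -/
def T1 (b a : F) : Matrix (Fin 4) (Fin 4) F := !![0, 1, b, a; -1, 0, 1, b; -b, -1, 0, 1; -a, -b, -1, 0]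

theorem H2_inv {ε : F} (h : ε ≠ 0) : (!![0, -1, 0, 0; 1, 0, 0, 0; 0, 0, 0, -ε⁻¹; 0, 0, ε⁻¹, 0] :
    Matrix (Fin 4) (Fin 4) F) * H2 ε = 1 := by
  ext i j
  fin_cases i <;> fin_cases j <;> simp [H2, Matrix.mul_apply, Fin.sum_univ_four, h]

theorem T1_inv {b a : F} (h : 1 - b * b + a ≠ 0) : ((1 - b * b + a)⁻¹ • (!![0, -1, b, -1; 1, 0, -a, b;
    -b, a, 0, -1; 1, -b, 1, 0] : Matrix (Fin 4) (Fin 4) F)) * T1 b a = 1 := by
  rw [smul_mul_assoc]
  have : (!![0, -1, b, -1; 1, 0, -a, b; -b, a, 0, -1; 1, -b, 1, 0] : Matrix (Fin 4) (Fin 4) F) * T1 b a =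
      (1 - b * b + a) • (1 : Matrix (Fin 4) (Fin 4) F) := by
    ext i j
    fin_cases i <;> fin_cases j <;> simp [T1, Matrix.mul_apply, Fin.sum_univ_four] <;> ring
  rw [this, smul_smul, inv_mul_cancel₀ h, one_smul]

theorem inv_smul_gram {a : F} (ha : a ≠ 0) {w : Fin 4 → Ix → F} {Γ G' : Matrix (Fin 4) (Fin 4) F}
    (h : gram w = a • Γ) (hG : G' * Γ = 1) : (a⁻¹ • G') * gram w = 1 := by
  rw [h, smul_mul_assoc, mul_smul_comm, smul_smul, inv_mul_cancel₀ ha, hG, one_smul]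

/-- the normal forms: the matrix of `g` and the Gram matrix (up to a scalar) -/
def NF (C Γ : Matrix (Fin 4) (Fin 4) F) : Prop :=
  (∃ b s p a : F, a = s * b - p + 1 ∧ 1 - b * b + a ≠ 0 ∧ Γ = T1 b a ∧
    C = !![0, 0, 0, -1; 1, 0, 0, s; 0, 1, 0, -p; 0, 0, 1, s]) ∨
  (∃ β l l' y : F, l * l' = 1 ∧ Γ = H2 1 ∧
    C = !![0, -1, 0, 0; 1, β, 0, l'; 0, 1, l, y; 0, 0, 0, l']) ∨
  (∃ β β' ε : F, ε ≠ 0 ∧ Γ = H2 ε ∧ C = !![0, -1, 0, 0; 1, β, 0, 0; 0, 0, 0, -1; 0, 0, 1, β']) ∨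
  (∃ β ε : F, (ε = 1 ∨ ε = -1) ∧ Γ = H2 1 ∧ C = !![0, -1, 0, 0; 1, β, 0, 0; 0, 0, ε, 0; 0, 0, 0, ε]) ∨
  (Γ = H2 1 ∧ C = !![1, 0, 0, 0; 0, 1, 0, 0; 0, 0, -1, 0; 0, 0, 0, -1])

end Cfsg.Agent.H309.SF
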