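import Cfsg.Agent.H309.SF.Nf

set_option autoImplicit false

namespace Cfsg.Agent.H309.SF

open Matrix

variable {F : Type*} [Field F]

theorem mul_mat {g : Matrix Ix Ix F} {w : Fin 4 → Ix → F} {C : Matrix (Fin 4) (Fin 4) F}
    (h : ∀ j, g *ᵥ w j = ∑ k, C k j • w k) : g * mat w = mat w * C := by
  ext i j
  have h1 := congrFun (h j) i
  rw [Matrix.mul_apply, Matrix.mul_apply]
  have h2 : (g *ᵥ w j) i = ∑ k, g i k * mat w k j := rfl
  rw [← h2, h1]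
  simp only [Finset.sum_apply, Pi.smul_apply, smul_eq_mul, mat, of_apply]
  exact Finset.sum_congr rfl fun k _ => mul_comm _ _

theorem perp_zero {w : Fin 4 → Ix → F} {G' : Matrix (Fin 4) (Fin 4) F} (h : G' * gram w = 1) {x : Ix → F}
    (h0 : B (w 0) x = 0) (h1 : B (w 1) x = 0) (h2 : B (w 2) x = 0) (h3 : B (w 3) x = 0) : x = 0 := by
  apply B_nondeg
  intro y
  obtain ⟨c, rfl⟩ := span_of_gram h y
  rw [B_comm]
  simp only [B_add_left, B_smul_left, h0, h1, h2, h3]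
  ring

/-- the conclusion -/
def Concl (g : Matrix Ix Ix F) : Prop :=
  ∃ (w : Fin 4 → Ix → F) (a : F) (C Γ G' : Matrix (Fin 4) (Fin 4) F), a ≠ 0 ∧ NF C Γ ∧ gram w = a • Γ ∧
    g * mat w = mat w * C ∧ G' * Γ = 1

theorem gram_ext {w : Fin 4 → Ix → F} {a ε : F} (h01 : B (w 0) (w 1) = a) (h02 : B (w 0) (w 2) = 0)
    (h03 : B (w 0) (w 3) = 0) (h12 : B (w 1) (w 2) = 0) (h13 : B (w 1) (w 3) = 0) (h23 : B (w 2) (w 3) = a * ε) :
    gram w = a • H2 ε := by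
  have h10 : B (w 1) (w 0) = -a := by rw [B_comm, h01]
  have h20 : B (w 2) (w 0) = 0 := by rw [B_comm, h02, neg_zero]
  have h30 : B (w 3) (w 0) = 0 := by rw [B_comm, h03, neg_zero]
  have h21 : B (w 2) (w 1) = 0 := by rw [B_comm, h12, neg_zero]
  have h31 : B (w 3) (w 1) = 0 := by rw [B_comm, h13, neg_zero]
  have h32 : B (w 3) (w 2) = -(a * ε) := by rw [B_comm, h23]
  ext i j
  fin_cases i <;> fin_cases j <;> simp [gram, H2, B_self, h01, h02, h03, h12, h13, h23, h10, h20, h30, h21, h31, h32]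

/-- involutions -/
theorem case_inv (h2 : (2 : F) ≠ 0) {g : Matrix Ix Ix F} (hg : gᵀ * J (Fin 2) F * g = J (Fin 2) F) (h1 : g ≠ 1)
    (hm : g ≠ -1) (hgg : ∀ x : Ix → F, g *ᵥ (g *ᵥ x) = x) : Concl g := by
  have hB := fun u v => B_mulVec hg u v
  obtain ⟨x, hx⟩ : ∃ x : Ix → F, g *ᵥ x + x ≠ 0 := by
    by_contra hc
    push Not at hc
    apply hm
    apply Matrix.ext_of_mulVec_single
    intro i
    rw [neg_mulVec, one_mulVec]
    exact eq_neg_of_add_eq_zero_left (hc _)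
  obtain ⟨y, hy⟩ : ∃ y : Ix → F, y - g *ᵥ y ≠ 0 := by
    by_contra hc
    push Not at hc
    apply h1
    apply Matrix.ext_of_mulVec_single
    intro i
    rw [one_mulVec]
    exact (sub_eq_zero.1 (hc _)).symm
  obtain ⟨e1, he1⟩ : ∃ e1, e1 = g *ᵥ x + x := ⟨_, rfl⟩
  obtain ⟨e2, he2⟩ : ∃ e2, e2 = y - g *ᵥ y := ⟨_, rfl⟩
  have ge1 : g *ᵥ e1 = e1 := by rw [he1, mulVec_add, hgg]; abel
  have ge2 : g *ᵥ e2 = -e2 := by rw [he2, mulVec_sub, hgg]; abel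
  rw [← he1] at hx
  rw [← he2] at hy
  obtain ⟨z, hz⟩ := exists_B hx
  obtain ⟨t, ht⟩ := exists_B hy
  obtain ⟨f1, hf1⟩ : ∃ f1, f1 = (2 * B e1 z)⁻¹ • (z + g *ᵥ z) := ⟨_, rfl⟩
  obtain ⟨f2, hf2⟩ : ∃ f2, f2 = (2 * B e2 t)⁻¹ • (t - g *ᵥ t) := ⟨_, rfl⟩
  have gf1 : g *ᵥ f1 = f1 := by rw [hf1, mulVec_smul, mulVec_add, hgg, add_comm]
  have gf2 : g *ᵥ f2 = -f2 := by rw [hf2, mulVec_smul, mulVec_sub, hgg, ← smul_neg, neg_sub]
  have b1 : B e1 f1 = 1 := by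
    have h3 : B e1 (g *ᵥ z) = B e1 z := by
      conv_lhs => rw [← ge1]
      exact hB _ _
    rw [hf1, B_smul_right, B_add_right, h3]
    have : 2 * B e1 z ≠ 0 := mul_ne_zero h2 hz
    field_simp
    ring
  have b2 : B e2 f2 = 1 := by
    have h3 : B e2 (g *ᵥ t) = - B e2 t := by
      have := hB e2 t
      rw [ge2, B_neg_left] at this
      linear_combination -this
    rw [hf2, B_smul_right, B_sub_right, h3]
    have : 2 * B e2 t ≠ 0 := mul_ne_zero h2 ht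
    field_simp
    ring
  have perp : ∀ u v : Ix → F, g *ᵥ u = u → g *ᵥ v = -v → B u v = 0 := by
    intro u v hu hv
    have h3 := hB u v
    rw [hu, hv, B_neg_right] at h3
    have h4 : 2 * B u v = 0 := by linear_combination -h3
    exact (mul_eq_zero.1 h4).resolve_left h2
  refine ⟨![e1, f1, e2, f2], 1, _, H2 1, _, one_ne_zero, Or.inr (Or.inr (Or.inr (Or.inr ⟨rfl, rfl⟩))), ?_, ?_,
    H2_inv one_ne_zero⟩
  · exact gram_ext b1 (perp _ _ ge1 ge2) (perp _ _ ge1 gf2) (perp _ _ gf1 ge2) (perp _ _ gf1 gf2) (by simpa using b2)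
  · apply mul_mat
    intro j
    fin_cases j <;> simp [Fin.sum_univ_four, ge1, ge2, gf1, gf2]

end Cfsg.Agent.H309.SF
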