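import Cfsg.Agent.H309.SF.Nf2

set_option autoImplicit false

namespace Cfsg.Agent.H309.SF

open Matrix

variable {F : Type*} [Field F]

/-- `v, gv, g²v, g³v` is a basis -/
theorem case_cyc {g : Matrix Ix Ix F} (hg : gᵀ * J (Fin 2) F * g = J (Fin 2) F) {v : Ix → F} {a b α : F} (ha : a ≠ 0)
    (h1 : B v (g *ᵥ v) = a) (h2 : B v (g *ᵥ (g *ᵥ v)) = a * b) (h3 : B v (g *ᵥ (g *ᵥ (g *ᵥ v))) = a * α)
    (hP : 1 - b * b + α ≠ 0) : Concl g := by
  have hB := fun u v => B_mulVec hg u v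
  obtain ⟨v1, hv1⟩ : ∃ v1, v1 = g *ᵥ v := ⟨_, rfl⟩
  obtain ⟨v2, hv2⟩ : ∃ v2, v2 = g *ᵥ v1 := ⟨_, rfl⟩
  obtain ⟨v3, hv3⟩ : ∃ v3, v3 = g *ᵥ v2 := ⟨_, rfl⟩
  rw [← hv1] at h1 h2 h3
  rw [← hv2] at h2 h3
  rw [← hv3] at h3
  have h12 : B v1 v2 = a := by
    have := hB v v1
    rw [← hv1, ← hv2] at this
    rw [this, h1]
  have h23 : B v2 v3 = a := by
    have := hB v1 v2
    rw [← hv2, ← hv3] at this
    rw [this, h12]
  have h13 : B v1 v3 = a * b := by
    have := hB v v2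
    rw [← hv1, ← hv3] at this
    rw [this, h2]
  have hgram : gram ![v, v1, v2, v3] = a • T1 b α := by
    have h10 : B v1 v = -a := by rw [B_comm, h1]
    have h20 : B v2 v = -(a * b) := by rw [B_comm, h2]
    have h30 : B v3 v = -(a * α) := by rw [B_comm, h3]
    have h21 : B v2 v1 = -a := by rw [B_comm, h12]
    have h31 : B v3 v1 = -(a * b) := by rw [B_comm, h13]
    have h32 : B v3 v2 = -a := by rw [B_comm, h23]
    ext i j
    fin_cases i <;> fin_cases j <;>
      simp [gram, T1, B_self, h1, h2, h3, h12, h13, h23, h10, h20, h30, h21, h31, h32]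
  have hinv := inv_smul_gram ha hgram (T1_inv hP)
  obtain ⟨c, hc⟩ := span_of_gram hinv (g *ᵥ v3)
  simp only [cons_val_zero, cons_val_one, cons_val_two, cons_val_three, head_cons, tail_cons, cons_val] at hc
  have e1 : B v1 (g *ᵥ v3) = a * α := by
    have := hB v v3
    rw [← hv1] at this
    rw [this, h3]
  have e2 : B v2 (g *ᵥ v3) = a * b := by
    have := hB v1 v3
    rw [← hv2] at this
    rw [this, h13]
  have e3 : B v3 (g *ᵥ v3) = a := by
    have := hB v2 v3
    rw [← hv3] at this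
    rw [this, h23]
  rw [hc] at e1 e2 e3
  simp only [B_add_right, B_smul_right, B_self, h12, h13, h23, B_comm v1 v, B_comm v2 v, B_comm v3 v, B_comm v2 v1,
    B_comm v3 v1, B_comm v3 v2, h1, h2, h3] at e1 e2 e3
  obtain ⟨c0, hc0⟩ : ∃ c0, c0 = c 0 := ⟨_, rfl⟩
  obtain ⟨c1, hc1⟩ : ∃ c1, c1 = c 1 := ⟨_, rfl⟩
  obtain ⟨c2, hc2⟩ : ∃ c2, c2 = c 2 := ⟨_, rfl⟩
  obtain ⟨c3, hc3⟩ : ∃ c3, c3 = c 3 := ⟨_, rfl⟩
  rw [← hc0, ← hc1, ← hc2, ← hc3] at e1 e2 e3 hc
  have e1' : α = -c0 + c2 + b * c3 := by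
    apply mul_left_cancel₀ ha
    linear_combination -e1
  have e2' : b = -(c0 * b) - c1 + c3 := by
    apply mul_left_cancel₀ ha
    linear_combination -e2
  have e3' : 1 = -(c0 * α) - c1 * b - c2 := by
    apply mul_left_cancel₀ ha
    linear_combination -e3
  have hk : (1 + c0) * (1 - b * b + α) = 0 := by
    linear_combination e1' - b * e2' + e3'
  have hk0 : c0 = -1 := eq_neg_of_add_eq_zero_right ((mul_eq_zero.1 hk).resolve_right hP)
  have hk1 : c1 = c3 := by
    rw [hk0] at e2'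
    linear_combination e2'
  refine ⟨![v, v1, v2, v3], a, !![0, 0, 0, -1; 1, 0, 0, c3; 0, 1, 0, c2; 0, 0, 1, c3], T1 b α, _, ha,
    Or.inl ⟨b, c3, -c2, α, ?_, hP, rfl, ?_⟩, hgram, ?_, T1_inv hP⟩
  · rw [hk0] at e1'
    linear_combination e1'
  · simp
  · apply mul_mat
    intro j
    fin_cases j
    · simp [Fin.sum_univ_four, ← hv1]
    · simp [Fin.sum_univ_four, ← hv2]
    · simp [Fin.sum_univ_four, ← hv3]
    · simp [Fin.sum_univ_four, hc, hk0, hk1]


/-- three-dimensional cyclic subspace -/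
theorem case_three {g : Matrix Ix Ix F} (hg : gᵀ * J (Fin 2) F * g = J (Fin 2) F) {v e : Ix → F} {a b : F} (ha : a ≠ 0)
    (h1 : B v (g *ᵥ v) = a) (he : g *ᵥ (g *ᵥ v) = -v + b • (g *ᵥ v) + e) (he0 : e ≠ 0) (hve : B v e = 0)
    (hve1 : B (g *ᵥ v) e = 0) (hq : B v (g *ᵥ e) = 0) : Concl g := by
  have hB := fun u v => B_mulVec hg u v
  obtain ⟨v1, hv1⟩ : ∃ v1, v1 = g *ᵥ v := ⟨_, rfl⟩
  rw [← hv1] at h1 he hve1
  -- the vector `f`
  obtain ⟨y, hy⟩ := exists_B he0
  obtain ⟨f, hf1, hf2, hf3⟩ : ∃ f, B v f = 0 ∧ B v1 f = 0 ∧ B e f = a := by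
    refine ⟨(a / B e y) • (y + (B v1 y / a) • v - (B v y / a) • v1), ?_, ?_, ?_⟩
    · simp only [B_add_right, B_sub_right, B_smul_right, B_self, h1]
      field_simp
      ring
    · simp only [B_add_right, B_sub_right, B_smul_right, B_self, B_comm v1 v, h1]
      field_simp
      ring
    · simp only [B_add_right, B_sub_right, B_smul_right, B_comm e v, B_comm e v1, hve, hve1]
      field_simp
      ring
  have hgram : gram ![v, v1, e, f] = a • H2 1 := gram_ext h1 hve hf1 hve1 hf2 (by simpa using hf3)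
  have hinv := inv_smul_gram ha hgram (H2_inv one_ne_zero)
  have hv1e : B v1 (g *ᵥ e) = 0 := by
    have := hB v e
    rw [← hv1] at this
    rw [this, hve]
  have hee : B e (g *ᵥ e) = 0 := by
    have h3 : B (g *ᵥ v1) (g *ᵥ e) = 0 := by rw [hB, hve1]
    rw [he] at h3
    simp only [B_add_left, B_neg_left, B_smul_left, hq, hv1e] at h3
    linear_combination h3
  -- `g e = l e`
  obtain ⟨l, hl⟩ : ∃ l, l = -(B f (g *ᵥ e) / a) := ⟨_, rfl⟩
  have hge : g *ᵥ e = l • e := by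
    rw [← sub_eq_zero]
    apply perp_zero hinv
    · show B v _ = 0
      rw [B_sub_right, B_smul_right, hq, hve]; ring
    · show B v1 _ = 0
      rw [B_sub_right, B_smul_right, hv1e, hve1]; ring
    · show B e _ = 0
      rw [B_sub_right, B_smul_right, hee, B_self]; ring
    · show B f _ = 0
      rw [B_sub_right, B_smul_right, B_comm f e, hf3, hl]
      field_simp
      ring
  obtain ⟨c, hc⟩ := span_of_gram hinv (g *ᵥ f)
  simp only [cons_val_zero, cons_val_one, cons_val] at hc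
  have hfe : B f e = -a := by rw [B_comm, hf3]
  have hv1v : B v1 v = -a := by rw [B_comm, h1]
  have k0 : c 0 = 0 := by
    have h3 : B v1 (g *ᵥ f) = 0 := by
      have := hB v f
      rw [← hv1] at this
      rw [this, hf1]
    rw [hc] at h3
    simp only [B_add_right, B_smul_right, B_self, hv1v, hve1, hf2] at h3
    have h4 : c 0 * a = 0 := by linear_combination -h3
    exact (mul_eq_zero.1 h4).resolve_right ha
  have k3 : l * c 3 = 1 := by
    have h3 : B (g *ᵥ e) (g *ᵥ f) = a := by rw [hB, hf3]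
    rw [hge, hc] at h3
    simp only [B_add_right, B_smul_right, B_smul_left, B_self, B_comm e v, B_comm e v1, hve, hve1, hf3] at h3
    apply mul_right_cancel₀ ha
    linear_combination h3
  have k1 : c 1 = c 3 := by
    have h3 : B (g *ᵥ v1) (g *ᵥ f) = 0 := by rw [hB, hf2]
    rw [he, hc, k0] at h3
    simp only [B_add_right, B_add_left, B_neg_left, B_smul_right, B_smul_left, B_self, B_comm e v, B_comm e v1, hve,
      hve1, hf3, hf1, hf2, h1, hv1v] at h3
    apply mul_right_cancel₀ ha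
    linear_combination -h3
  refine ⟨![v, v1, e, f], a, !![0, -1, 0, 0; 1, b, 0, c 3; 0, 1, l, c 2; 0, 0, 0, c 3], H2 1, _, ha,
    Or.inr (Or.inl ⟨b, l, c 3, c 2, k3, rfl, rfl⟩), hgram, ?_, H2_inv one_ne_zero⟩
  apply mul_mat
  intro j
  fin_cases j
  · simp [Fin.sum_univ_four, ← hv1]
  · simp [Fin.sum_univ_four, he]
  · simp [Fin.sum_univ_four, hge]
  · simp [Fin.sum_univ_four, hc, k0, k1]

end Cfsg.Agent.H309.SF
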