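import Cfsg.Agent.H309.SF.Nf3

set_option autoImplicit false

namespace Cfsg.Agent.H309.SF

open Matrix

variable {F : Type*} [Field F]

/-- invariant nondegenerate plane -/
theorem case_two {g : Matrix Ix Ix F} (hg : gᵀ * J (Fin 2) F * g = J (Fin 2) F) {v : Ix → F} {a b : F} (ha : a ≠ 0)
    (h1 : B v (g *ᵥ v) = a) (he : g *ᵥ (g *ᵥ v) = -v + b • (g *ᵥ v)) : Concl g := by
  have hB := fun u v => B_mulVec hg u v
  obtain ⟨v1, hv1⟩ : ∃ v1, v1 = g *ᵥ v := ⟨_, rfl⟩
  rw [← hv1] at h1 he
  have hv1v : B v1 v = -a := by rw [B_comm, h1]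
  -- projection
  obtain ⟨pr, hpr⟩ : ∃ pr : (Ix → F) → (Ix → F), pr = fun x => x + (B v1 x / a) • v - (B v x / a) • v1 := ⟨_, rfl⟩
  have pr1 : ∀ x, B v (pr x) = 0 := by
    intro x
    rw [hpr]
    simp only [B_add_right, B_sub_right, B_smul_right, B_self, h1]
    field_simp
    ring
  have pr2 : ∀ x, B v1 (pr x) = 0 := by
    intro x
    rw [hpr]
    simp only [B_add_right, B_sub_right, B_smul_right, B_self, hv1v]
    field_simp
    ring
  have pr3 : ∀ u x, B v u = 0 → B v1 u = 0 → B u (pr x) = B u x := by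
    intro u x hu hu1
    rw [hpr]
    simp only [B_add_right, B_sub_right, B_smul_right, B_comm u v, B_comm u v1, hu, hu1]
    ring
  -- invariance
  have inv1 : ∀ u, B v u = 0 → B v1 (g *ᵥ u) = 0 := by
    intro u hu
    have := hB v u
    rw [← hv1] at this
    rw [this, hu]
  have inv0 : ∀ u, B v u = 0 → B v1 u = 0 → B v (g *ᵥ u) = 0 := by
    intro u hu hu1
    have h3 : B (g *ᵥ v1) (g *ᵥ u) = 0 := by rw [hB, hu1]
    rw [he] at h3
    simp only [B_add_left, B_neg_left, B_smul_left, inv1 u hu] at h3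
    linear_combination -h3
  -- a vector outside
  obtain ⟨x, hx⟩ : ∃ x, pr x ≠ 0 := by
    by_contra hc
    push Not at hc
    have htop : (⊤ : Submodule F (Ix → F)) ≤ Submodule.span F {v, v1} := by
      intro x _
      have h3 := hc x
      rw [hpr] at h3
      have h4 : x = (-(B v1 x / a)) • v + (B v x / a) • v1 := by
        have h5 : x + (B v1 x / a) • v - (B v x / a) • v1 = 0 := h3
        have h6 : x = (-(B v1 x / a)) • v + (B v x / a) • v1 + (x + (B v1 x / a) • v - (B v x / a) • v1) := by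
          module
        rw [h5, add_zero] at h6
        exact h6
      rw [h4]
      exact Submodule.add_mem _ (Submodule.smul_mem _ _ (Submodule.subset_span (by simp)))
        (Submodule.smul_mem _ _ (Submodule.subset_span (by simp)))
    classical
    have h4 := Submodule.finrank_mono htop
    have h5 := finrank_span_le_card (R := F) ({v, v1} : Set (Ix → F))
    rw [finrank_top, Module.finrank_fintype_fun_eq_card] at h4
    have h6 : (({v, v1} : Set (Ix → F)).toFinset).card ≤ 2 := by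
      rw [Set.toFinset_insert, Set.toFinset_singleton]
      exact Finset.card_le_two
    have h7 : Fintype.card Ix = 4 := by simp
    omega
  obtain ⟨u, hu⟩ : ∃ u, u = pr x := ⟨_, rfl⟩
  have hu1 : B v u = 0 := by rw [hu]; exact pr1 x
  have hu2 : B v1 u = 0 := by rw [hu]; exact pr2 x
  rw [← hu] at hx
  by_cases hU : ∃ u : Ix → F, B v u = 0 ∧ B v1 u = 0 ∧ B u (g *ᵥ u) ≠ 0
  · obtain ⟨u, hu1, hu2, hu3⟩ := hU
    obtain ⟨t, ht⟩ : ∃ t, t = g *ᵥ u := ⟨_, rfl⟩
    rw [← ht] at hu3
    obtain ⟨ε, hε⟩ : ∃ ε, ε = B u t / a := ⟨_, rfl⟩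
    have hε0 : ε ≠ 0 := by rw [hε]; exact div_ne_zero hu3 ha
    have hut : B u t = a * ε := by rw [hε]; field_simp
    have ht1 : B v t = 0 := by rw [ht]; exact inv0 u hu1 hu2
    have ht2 : B v1 t = 0 := by rw [ht]; exact inv1 u hu1
    have hgram : gram ![v, v1, u, t] = a • H2 ε := gram_ext h1 hu1 ht1 hu2 ht2 hut
    have hinv := inv_smul_gram ha hgram (H2_inv hε0)
    have ht3 : B v (g *ᵥ t) = 0 := inv0 t ht1 ht2
    have ht4 : B v1 (g *ᵥ t) = 0 := inv1 t ht1
    have ht5 : B t (g *ᵥ t) = a * ε := by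
      have := hB u t
      rw [← ht] at this
      rw [this, hut]
    obtain ⟨β, hβ⟩ : ∃ β, β = B u (g *ᵥ t) / B u t := ⟨_, rfl⟩
    have hβ' : B u (g *ᵥ t) = a * ε * β := by rw [← hut, hβ]; field_simp
    have hgt : g *ᵥ t = -u + β • t := by
      rw [← sub_eq_zero]
      apply perp_zero hinv
      · show B v _ = 0
        simp only [B_sub_right, B_add_right, B_neg_right, B_smul_right, ht3, hu1, ht1]; ring
      · show B v1 _ = 0
        simp only [B_sub_right, B_add_right, B_neg_right, B_smul_right, ht4, hu2, ht2]; ring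
      · show B u _ = 0
        simp only [B_sub_right, B_add_right, B_neg_right, B_smul_right, B_self, hβ', hut]; ring
      · show B t _ = 0
        simp only [B_sub_right, B_add_right, B_neg_right, B_smul_right, B_self, ht5, B_comm t u, hut]; ring
    refine ⟨![v, v1, u, t], a, _, H2 ε, _, ha, Or.inr (Or.inr (Or.inl ⟨b, β, ε, hε0, rfl, rfl⟩)), hgram, ?_,
      H2_inv hε0⟩
    apply mul_mat
    intro j
    fin_cases j
    · simp [Fin.sum_univ_four, ← hv1]
    · simp [Fin.sum_univ_four, he]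
    · simp [Fin.sum_univ_four, ← ht]
    · simp [Fin.sum_univ_four, hgt]
  · push Not at hU
    obtain ⟨y, hy⟩ := exists_B hx
    have hy0 : B u (pr y) ≠ 0 := by rwa [pr3 u y hu1 hu2]
    obtain ⟨f, hf⟩ : ∃ f, f = (a / B u (pr y)) • pr y := ⟨_, rfl⟩
    have hf1 : B v f = 0 := by rw [hf, B_smul_right, pr1, mul_zero]
    have hf2 : B v1 f = 0 := by rw [hf, B_smul_right, pr2, mul_zero]
    have hf3 : B u f = a := by rw [hf, B_smul_right]; field_simp
    have hfu : B f u = -a := by rw [B_comm, hf3]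
    have hgram : gram ![v, v1, u, f] = a • H2 1 := gram_ext h1 hu1 hf1 hu2 hf2 (by simpa using hf3)
    have hinv := inv_smul_gram ha hgram (H2_inv one_ne_zero)
    have guu : B u (g *ᵥ u) = 0 := hU u hu1 hu2
    have gff : B f (g *ᵥ f) = 0 := hU f hf1 hf2
    obtain ⟨c, hc⟩ : ∃ c, c = -(B f (g *ᵥ u) / a) := ⟨_, rfl⟩
    have hgu : g *ᵥ u = c • u := by
      rw [← sub_eq_zero]
      apply perp_zero hinv
      · show B v _ = 0
        simp only [B_sub_right, B_smul_right, inv0 u hu1 hu2, hu1]; ring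
      · show B v1 _ = 0
        simp only [B_sub_right, B_smul_right, inv1 u hu1, hu2]; ring
      · show B u _ = 0
        simp only [B_sub_right, B_smul_right, guu, B_self]; ring
      · show B f _ = 0
        simp only [B_sub_right, B_smul_right, hfu, hc]
        field_simp
        ring
    obtain ⟨d, hd⟩ : ∃ d, d = B u (g *ᵥ f) / a := ⟨_, rfl⟩
    have hgf : g *ᵥ f = d • f := by
      rw [← sub_eq_zero]
      apply perp_zero hinv
      · show B v _ = 0
        simp only [B_sub_right, B_smul_right, inv0 f hf1 hf2, hf1]; ring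
      · show B v1 _ = 0
        simp only [B_sub_right, B_smul_right, inv1 f hf1, hf2]; ring
      · show B u _ = 0
        simp only [B_sub_right, B_smul_right, hf3, hd]
        field_simp
        ring
      · show B f _ = 0
        simp only [B_sub_right, B_smul_right, gff, B_self]; ring
    have hcd : c = d := by
      have h3 := hU (u + f) (by rw [B_add_right, hu1, hf1, add_zero]) (by rw [B_add_right, hu2, hf2, add_zero])
      rw [mulVec_add, hgu, hgf] at h3
      simp only [B_add_left, B_add_right, B_smul_right, B_self, hf3, hfu] at h3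
      apply mul_right_cancel₀ ha
      linear_combination -h3
    have hcc : c * c = 1 := by
      have h3 := hB u f
      rw [hgu, hgf, ← hcd, hf3] at h3
      simp only [B_smul_left, B_smul_right, hf3] at h3
      apply mul_right_cancel₀ ha
      linear_combination h3
    have hc1 : c = 1 ∨ c = -1 := mul_self_eq_one_iff.1 hcc
    refine ⟨![v, v1, u, f], a, _, H2 1, _, ha, Or.inr (Or.inr (Or.inr (Or.inl ⟨b, c, hc1, rfl, rfl⟩))), hgram, ?_,
      H2_inv one_ne_zero⟩
    apply mul_mat
    intro j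
    fin_cases j
    · simp [Fin.sum_univ_four, ← hv1]
    · simp [Fin.sum_univ_four, he]
    · simp [Fin.sum_univ_four, hgu]
    · simp [Fin.sum_univ_four, hgf, ← hcd]

/-- **Normal forms.** -/
theorem nf (h2 : (2 : F) ≠ 0) {g : Matrix Ix Ix F} (hg : gᵀ * J (Fin 2) F * g = J (Fin 2) F) (h1 : g ≠ 1)
    (hm : g ≠ -1) : Concl g := by
  have hB := fun u v => B_mulVec hg u v
  by_cases hv : ∀ v : Ix → F, B v (g *ᵥ v) = 0
  · apply case_inv h2 hg h1 hm
    intro x
    rw [← sub_eq_zero]
    apply B_nondeg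
    intro y
    -- `y = g z`
    obtain ⟨z, rfl⟩ : ∃ z, y = g *ᵥ z := by
      refine ⟨(-(J (Fin 2) F * gᵀ * J (Fin 2) F)) *ᵥ y, ?_⟩
      rw [mulVec_mulVec]
      have h3 : (-(J (Fin 2) F * gᵀ * J (Fin 2) F)) * g = 1 := by
        rw [neg_mul, Matrix.mul_assoc, Matrix.mul_assoc, ← Matrix.mul_assoc gᵀ, hg, J_squared, neg_neg]
      rw [mul_eq_one_comm.1 h3, one_mulVec]
    have h3 := hv (x + z)
    rw [mulVec_add, B_add_left, B_add_right, B_add_right, hv x, hv z] at h3
    rw [B_sub_left, hB]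
    have h4 : B x (g *ᵥ z) = - B z (g *ᵥ x) := by linear_combination h3
    rw [h4, B_comm z]
    ring
  · push Not at hv
    obtain ⟨v, hv⟩ := hv
    obtain ⟨a, ha⟩ : ∃ a, a = B v (g *ᵥ v) := ⟨_, rfl⟩
    rw [← ha] at hv
    obtain ⟨b, hb⟩ : ∃ b, b = B v (g *ᵥ (g *ᵥ v)) / a := ⟨_, rfl⟩
    have hb' : B v (g *ᵥ (g *ᵥ v)) = a * b := by rw [hb]; field_simp
    obtain ⟨e, he⟩ : ∃ e, e = g *ᵥ (g *ᵥ v) + v - b • (g *ᵥ v) := ⟨_, rfl⟩
    have he' : g *ᵥ (g *ᵥ v) = -v + b • (g *ᵥ v) + e := by rw [he]; module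
    by_cases he0 : e = 0
    · rw [he0, add_zero] at he'
      exact case_two hg hv ha.symm he'
    · by_cases hq : B v (g *ᵥ e) = 0
      · refine case_three hg hv ha.symm he' he0 ?_ ?_ hq
        · rw [he, B_sub_right, B_add_right, B_smul_right, B_self, hb', ← ha]; ring
        · rw [he, B_sub_right, B_add_right, B_smul_right, B_self, hB, ← ha, B_comm _ v, ← ha]; ring
      · obtain ⟨α, hα⟩ : ∃ α, α = B v (g *ᵥ (g *ᵥ (g *ᵥ v))) / a := ⟨_, rfl⟩
        have hα' : B v (g *ᵥ (g *ᵥ (g *ᵥ v))) = a * α := by rw [hα]; field_simp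
        refine case_cyc hg hv ha.symm hb' hα' ?_
        intro h3
        apply hq
        rw [he, mulVec_sub, mulVec_add, mulVec_smul, B_sub_right, B_add_right, B_smul_right, hb', ← ha, hα']
        linear_combination a * h3

end Cfsg.Agent.H309.SF
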