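import Cfsg.Agent.H309.SF.Good7
import Cfsg.Agent.H812.TC.SpFour

set_option autoImplicit false

/-!
# S2464, S2452: `PSp_4(7)` (helper309)
-/

namespace Cfsg.Agent.H309.SF

open Matrix Polynomial

/-- transfer of a factorization of the matrix of `g` in a basis -/
theorem fac_of {F : Type*} [Field F] {g : symplecticGroup (Fin 2) F} {w : Fin 4 → Ix → F} {a : F}
    {C Γ G' X Y : Matrix (Fin 4) (Fin 4) F} (ha : a ≠ 0) (hgram : gram w = a • Γ) (hg : g.1 * mat w = mat w * C)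
    (hG' : G' * Γ = 1) (hX : Xᵀ * Γ * X = Γ) (hC : C = X * Y ∨ C = -(X * Y)) :
    ∃ (A B : symplecticGroup (Fin 2) F) (N : Matrix (Fin 4) Ix F), (A.1 * B.1 = g.1 ∨ A.1 * B.1 = -g.1) ∧
      N * mat w = 1 ∧ A.1 = mat w * X * N ∧ B.1 = mat w * Y * N := by
  have hinv := inv_of_gram (inv_smul_gram ha hgram hG')
  obtain ⟨N, hN⟩ : ∃ N, N = (a⁻¹ • G') * (mat w)ᵀ * J (Fin 2) F := ⟨_, rfl⟩
  rw [← hN] at hinv
  obtain ⟨h1, h2⟩ := hinv
  have hA : mat w * X * N ∈ symplecticGroup (Fin 2) F := by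
    rw [SymplecticGroup.mem_iff']
    have e : (mat w * X * N)ᵀ * J (Fin 2) F * (mat w * X * N) =
        Nᵀ * (Xᵀ * ((mat w)ᵀ * J (Fin 2) F * mat w) * X) * N := by
      simp only [transpose_mul, Matrix.mul_assoc]
    have e2 : Nᵀ * ((mat w)ᵀ * J (Fin 2) F * mat w) * N = (mat w * N)ᵀ * J (Fin 2) F * (mat w * N) := by
      simp only [transpose_mul, Matrix.mul_assoc]
    rw [e, gram_eq, hgram, mul_smul_comm, smul_mul_assoc, hX, ← hgram, ← gram_eq, e2, h2, transpose_one,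
      Matrix.one_mul, Matrix.mul_one]
  obtain ⟨A, hA'⟩ : ∃ A : symplecticGroup (Fin 2) F, A.1 = mat w * X * N := ⟨⟨_, hA⟩, rfl⟩
  have hgN : g.1 = mat w * C * N := by rw [← hg, Matrix.mul_assoc, h2, Matrix.mul_one]
  have hprod : (mat w * X * N) * (mat w * Y * N) = mat w * (X * Y) * N := by
    have : (mat w * X * N) * (mat w * Y * N) = mat w * X * (N * mat w) * Y * N := by simp only [Matrix.mul_assoc]
    rw [this, h1, Matrix.mul_one]
    simp only [Matrix.mul_assoc]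
  have hgs : (mat w * X * N) * (mat w * Y * N) = g.1 ∨ (mat w * X * N) * (mat w * Y * N) = -g.1 := by
    rcases hC with hC | hC
    · left; rw [hprod, hgN, hC]
    · right; rw [hprod, hgN, hC, Matrix.mul_neg, Matrix.neg_mul, neg_neg]
  have hAi : A⁻¹.1 * A.1 = 1 := by
    have := congrArg Subtype.val (inv_mul_cancel A)
    rwa [Submonoid.coe_mul] at this
  rcases hgs with h | h
  · refine ⟨A, A⁻¹ * g, N, Or.inl ?_, h1, hA', ?_⟩
    · rw [← Submonoid.coe_mul, mul_inv_cancel_left]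
    · rw [Submonoid.coe_mul, ← h, ← hA', ← Matrix.mul_assoc, hAi, Matrix.one_mul]
  · obtain ⟨g', hg'⟩ : ∃ g' : symplecticGroup (Fin 2) F, g'.1 = -g.1 := ⟨⟨_, SymplecticGroup.neg_mem g.2⟩, rfl⟩
    refine ⟨A, A⁻¹ * g', N, Or.inr ?_, h1, hA', ?_⟩
    · rw [← Submonoid.coe_mul, mul_inv_cancel_left, hg']
    · rw [Submonoid.coe_mul, hg', ← h, ← hA', ← Matrix.mul_assoc, hAi, Matrix.one_mul]

theorem pow_conj {F : Type*} [Field F] {w : Fin 4 → Ix → F} {X : Matrix (Fin 4) (Fin 4) F} {N : Matrix (Fin 4) Ix F}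
    (h1 : N * mat w = 1) (n : ℕ) : (mat w * X * N) ^ (n + 1) = mat w * X ^ (n + 1) * N := by
  induction n with
  | zero => simp
  | succ n ih =>
    rw [pow_succ, ih, pow_succ X (n + 1)]
    have : mat w * X ^ (n + 1) * N * (mat w * X * N) = mat w * X ^ (n + 1) * (N * mat w) * X * N := by
      simp only [Matrix.mul_assoc]
    rw [this, h1, Matrix.mul_one]
    simp only [Matrix.mul_assoc]

variable {F : Type} [Field F] [Fintype F]

theorem charpoly_five (h4 : orderOf ((Fintype.card F : ℕ) : ZMod 5) = 4) {M : Matrix Ix Ix F} (hM : M ^ 5 = 1)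
    (h1 : M ≠ 1) : M.charpoly = cyclotomic 5 F := by
  have h5 : Nat.Prime 5 := by norm_num
  have hirr := H812.TC.SpF.irr_charpoly h5 h4 (by simp) hM h1
  have hmp := minpoly.eq_of_irreducible_of_monic hirr M.aeval_self_charpoly M.charpoly_monic
  have hdeg : M.charpoly.natDegree = 4 := by rw [M.charpoly_natDegree_eq_dim]; simp
  have hd : M.charpoly ∣ X ^ 5 - 1 := by
    rw [hmp]
    apply minpoly.dvd
    simp [hM]
  have : Fact (Nat.Prime 5) := ⟨h5⟩
  rw [← cyclotomic_prime_mul_X_sub_one F 5] at hd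
  rcases hirr.prime.dvd_or_dvd hd with hd | hd
  · refine (eq_of_monic_of_dvd_of_natDegree_le M.charpoly_monic (cyclotomic.monic 5 F) hd ?_).symm
    rw [natDegree_cyclotomic, hdeg, Nat.totient_prime h5]
  · exfalso
    rw [← C_1] at hd
    have h2 := natDegree_le_of_dvd hd (X_sub_C_ne_zero (1 : F))
    rw [hdeg, natDegree_X_sub_C] at h2
    omega

theorem conj_ne {F : Type*} [Field F] {w : Fin 4 → Ix → F} {X : Matrix (Fin 4) (Fin 4) F} {N : Matrix (Fin 4) Ix F}
    (h1 : N * mat w = 1) (hX : X ≠ 1) : mat w * X * N ≠ 1 := by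
  intro h
  apply hX
  have : N * (mat w * X * N) * mat w = (N * mat w) * X * (N * mat w) := by simp only [Matrix.mul_assoc]
  rw [h, Matrix.mul_one, h1, Matrix.one_mul, Matrix.mul_one] at this
  exact this.symm

theorem conj_pow {F : Type*} [Field F] {w : Fin 4 → Ix → F} {X : Matrix (Fin 4) (Fin 4) F} {N : Matrix (Fin 4) Ix F}
    (h1 : N * mat w = 1) {n : ℕ} (hX : X ^ (n + 1) = 1) : (mat w * X * N) ^ (n + 1) = 1 := by
  rw [pow_conj h1, hX, Matrix.mul_one]
  exact (Matrix.mul_eq_one_comm_of_card_eq _ _ _ (by simp)).1 h1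

/-- **`PSp_4(7)`** -/
theorem row3_psp_two_seven (hF : Fintype.card F = 7) : H210.TC.Row3 (PSp 2 F) := by
  have h5 : Nat.Prime 5 := by norm_num
  obtain ⟨r, hr, hr5, h4, x, hx⟩ := H812.TC.SpF.exists_elt (F := F) (by omega)
  have hr' : r = 5 := by
    have h1 : (((7 : ℕ) : ZMod r)) ^ 4 = 1 := by
      rw [← hF, ← h4]
      exact pow_orderOf_eq_one _
    have h2 : ((2400 : ℕ) : ZMod r) = 0 := by
      have h3 : ((7 ^ 4 : ℕ) : ZMod r) = 1 := by exact_mod_cast h1
      have h6 : ((2400 + 1 : ℕ) : ZMod r) = 1 := by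
        rw [show 2400 + 1 = 7 ^ 4 by norm_num]; exact h3
      rw [Nat.cast_add, Nat.cast_one] at h6
      exact left_eq_add.1 (by rw [add_comm] at h6; exact h6.symm)
    have h3 : r ∣ 2400 := (ZMod.natCast_eq_zero_iff _ _).1 h2
    have h6 : r ∣ 2 ^ 5 * 3 * 5 ^ 2 := by norm_num; exact h3
    rcases (hr.dvd_mul).1 h6 with h7 | h7
    · rcases (hr.dvd_mul).1 h7 with h8 | h8
      · have := Nat.le_of_dvd (by norm_num) (hr.dvd_of_dvd_pow h8); omega
      · have := Nat.le_of_dvd (by norm_num) h8; omega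
    · have := Nat.le_of_dvd (by norm_num) (hr.dvd_of_dvd_pow h7); omega
  subst hr'
  have hx5 : x.1 ^ 5 = 1 := by
    have h1 : x ^ 5 = 1 := by
      conv_lhs => rw [← hx]
      exact pow_orderOf_eq_one x
    have := congrArg Subtype.val h1
    rwa [SubmonoidClass.coe_pow] at this
  have hx1 : x.1 ≠ 1 := by
    intro h
    have h1 : x = 1 := Subtype.ext h
    rw [h1, orderOf_one] at hx
    omega
  have hchar : Nat.card F = 7 := by rw [Nat.card_eq_fintype_card, hF]
  have h2 : (2 : F) ≠ 0 := by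
    have : Fact (Nat.Prime 7) := ⟨by norm_num⟩
    have : CharP F 7 := charP_of_card_eq_prime hF
    intro h
    have := (CharP.cast_eq_zero_iff F 7 2).1 (by exact_mod_cast h)
    omega
  refine H812.TC.SpF.row3_sign h5 le_rfl h4 hx fun g hg => ?_
  have hg1 : g.1 ≠ 1 := fun h => hg (by
    rw [show g = 1 from Subtype.ext h]
    exact one_mem _)
  have hgm : g.1 ≠ -1 := fun h => hg (by
    rw [Subgroup.mem_center_iff]
    intro y
    apply Subtype.ext
    rw [Submonoid.coe_mul, Submonoid.coe_mul, h, Matrix.mul_neg, Matrix.neg_mul, Matrix.mul_one, Matrix.one_mul])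
  obtain ⟨w, a, C, Γ, G', ha, hnf, hgram, hgm, hG'⟩ := nf h2 (SymplecticGroup.mem_iff'.1 g.2) hg1 hgm
  obtain ⟨X, Y, hX, hX5, hX1, hY5, hY1, hC⟩ := T7.good_of_NF hchar hnf
  obtain ⟨A, B, N, hAB, hN, hA, hB⟩ := fac_of ha hgram hgm hG' hX hC
  refine ⟨A, B, hAB, ?_, ?_⟩
  · rw [charpoly_five h4 hx5 hx1]
    exact charpoly_five h4 (by rw [hA]; exact conj_pow hN hX5) (by rw [hA]; exact conj_ne hN hX1)
  · rw [charpoly_five h4 hx5 hx1]
    exact charpoly_five h4 (by rw [hB]; exact conj_pow hN hY5) (by rw [hB]; exact conj_ne hN hY1)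

end Cfsg.Agent.H309.SF
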